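import Groth.Agent.CohenRingLib.Basic

/-!
The fibre local ring along an effective Cartier section.
-/

set_option autoImplicit false
universe u
open IsLocalRing

namespace Groth.Agent.SecFibreLib

theorem isDVR_fibre {A B C D : Type u} [CommRing A] [CommRing B] [CommRing C] [CommRing D]
    [IsLocalRing A] [IsLocalRing B] [IsLocalRing D] [IsNoetherianRing D]
    (α : A →+* B) [IsLocalHom α] (σ : B →+* C) (e : A ≃+* C) (he : ∀ a, σ (α a) = e a)
    (t : B) (ht : t ∈ nonZeroDivisors B) (hσ : RingHom.ker σ = Ideal.span {t})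
    (ψ : B →+* D) (hψ : Function.Surjective ψ) (hker : RingHom.ker ψ = (maximalIdeal A).map α) :
    ∃ _ : IsDomain D, IsDiscreteValuationRing D := by
  let P : B → A := fun b => e.symm (σ b)
  have hdec : ∀ b : B, ∃ d, b = α (P b) + t * d := fun b => by
    have h : b - α (P b) ∈ RingHom.ker σ := by rw [RingHom.mem_ker, map_sub, he, e.apply_symm_apply, sub_self]
    rw [hσ, Ideal.mem_span_singleton'] at h
    obtain ⟨d, hd⟩ := h
    exact ⟨d, by rw [mul_comm t d, hd]; ring⟩
  have key : ∀ y ∈ (maximalIdeal A).map α, ∃ d ∈ (maximalIdeal A).map α, y = α (P y) + t * d := by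
    intro y hy
    induction hy using Submodule.span_induction with
    | mem g hg =>
      obtain ⟨a, -, rfl⟩ := hg
      exact ⟨0, zero_mem _, by simp [P, he]⟩
    | zero => exact ⟨0, zero_mem _, by simp [P]⟩
    | add a b _ _ ha hb =>
      obtain ⟨c, hc, hac⟩ := ha
      obtain ⟨d, hd, hbd⟩ := hb
      refine ⟨c + d, add_mem hc hd, ?_⟩
      rw [show α (P (a + b)) = α (P a) + α (P b) by simp [P]]
      linear_combination hac + hbd
    | smul q g hg ih =>
      obtain ⟨d, hd, hgd⟩ := ih
      obtain ⟨c, hc⟩ := hdec q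
      refine ⟨c * g + α (P q) * d, add_mem (Ideal.mul_mem_left _ _ hg) (Ideal.mul_mem_left _ _ hd), ?_⟩
      rw [smul_eq_mul, show α (P (q * g)) = α (P q) * α (P g) by simp [P]]
      linear_combination g * hc + α (P q) * hgd
  have hPm : ∀ b ∈ maximalIdeal B, P b ∈ maximalIdeal A := fun b hb => by
    have hC : ¬ IsUnit (σ b) := fun hu => by
      obtain ⟨d, hd⟩ := hdec b
      refine hb ?_
      have htm : t ∈ maximalIdeal B := fun htu => by
        have h0 : σ t = 0 := by rw [← RingHom.mem_ker, hσ]; exact Ideal.mem_span_singleton_self t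
        have h1 : IsUnit (σ t) := htu.map σ
        rw [h0] at h1
        have hA : (0 : A) = 1 := e.injective (by rw [map_zero, map_one]; exact isUnit_zero_iff.1 h1)
        exact zero_ne_one hA
      by_contra hbu
      have h2 : α (P b) ∈ maximalIdeal B := by
        rw [show α (P b) = b - t * d by linear_combination (-1 : B) * hd]
        exact sub_mem hbu (Ideal.mul_mem_right _ _ htm)
      exact h2 ((hu.map e.symm.toRingHom).map α)
    exact fun hu => hC (by simpa [P] using hu.map e.toRingHom)
  refine CohenRingLib.isDVR_of_principal_regular (x := ψ t) ?_ ?_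
  · refine le_antisymm (fun y hy => ?_) ((Ideal.span_singleton_le_iff_mem _).2 ?_)
    · obtain ⟨b, rfl⟩ := hψ y
      obtain ⟨d, hd⟩ := hdec b
      have h0 : ψ (α (P b)) = 0 := by
        rw [← RingHom.mem_ker, hker]
        exact Ideal.mem_map_of_mem _ (hPm b fun hu => hy (hu.map ψ))
      rw [hd, map_add, h0, zero_add, map_mul, mul_comm]
      exact Ideal.mul_mem_left _ _ (Ideal.mem_span_singleton_self _)
    · haveI : IsLocalHom ψ := .of_surjective ψ hψ
      intro hu
      have htu : IsUnit t := isUnit_of_map_unit ψ t hu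
      have h0 : σ t = 0 := by rw [← RingHom.mem_ker, hσ]; exact Ideal.mem_span_singleton_self t
      have h1 : IsUnit (σ t) := htu.map σ
      rw [h0] at h1
      exact zero_ne_one (α := A) (e.injective (by rw [map_zero, map_one]; exact isUnit_zero_iff.1 h1))
  · rw [mem_nonZeroDivisors_iff_right]
    intro y hy
    obtain ⟨b, rfl⟩ := hψ y
    rw [← map_mul, ← RingHom.mem_ker, hker] at hy
    obtain ⟨d, hd, hbd⟩ := key _ hy
    have hP : P (b * t) = 0 := by
      have h0 : σ t = 0 := by rw [← RingHom.mem_ker, hσ]; exact Ideal.mem_span_singleton_self t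
      simp [P, h0]
    rw [hP, map_zero, zero_add, mul_comm b t, mul_cancel_left_mem_nonZeroDivisors ht] at hbd
    rw [← RingHom.mem_ker, hker, hbd]
    exact hd

end Groth.Agent.SecFibreLib
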